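import Cfsg.Agent.H815.Rs.Parts
import Cfsg.Agent.H735.Rg.LoEight
import Cfsg.Agent.H976.Rg.Inst
import Cfsg.Agent.S0789

/-!
# S3691, `O_8^-(2^f)`: the reductions (helper815)
-/

set_option autoImplicit false
set_option linter.unusedSectionVars false

namespace Cfsg.Agent.H815.Rs

open Module QuadraticMap Cfsg Cfsg.Geo Cfsg.Agent.LieClassical.OrthCore Cfsg.Agent.H955 Cfsg.Agent.H954.TSing
  Cfsg.Agent.H884.El
open Cfsg.Agent.H951 (fx cm Inv)
open Cfsg.Agent.LieClassical.OrthFinite (glEquiv glEquiv_apply)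
open scoped MatrixGroups Matrix

section Core

variable {F : Type} [Field F] [Fintype F] {Q : QuadraticForm F (Fin 8 → F)} {R : Subgroup (GL (Fin 8) F)} {f : ℕ}

theorem cardF (hF : Fintype.card F = 2 ^ f) : Nat.card F = 2 ^ f := by rw [Nat.card_eq_fintype_card, hF]

theorem two_zero (hf : 4 ≤ f) (hF : Fintype.card F = 2 ^ f) : (2 : F) = 0 := by
  have h1 : ((Fintype.card F : ℕ) : F) = 0 := FiniteField.cast_card_eq_zero F
  rw [hF, Nat.cast_pow] at h1
  exact_mod_cast pow_eq_zero_iff (by omega) |>.1 h1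

theorem num (hf : 4 ≤ f) (hF : Fintype.card F = 2 ^ f) {r s t : ℕ} (hr : PP 2 (f * 8) r) (hs : PP 2 (f * 6) s)
    (ht : PP (Nat.card F) 3 t) (htf : ¬ t ∣ f) : H975.Cov.Num F 2 f r s t := by
  refine ⟨Nat.prime_two, by omega, cardF hF, hr, ht, htf, Or.inr ⟨?_, hs⟩⟩
  rw [cardF hF]
  intro h
  have h1 : 2 ^ 4 ≤ 2 ^ f := Nat.pow_le_pow_right (by norm_num) hf
  omega

theorem hcard8 : 5 ≤ Fintype.card (Fin 8) := by rw [Fintype.card_fin]; norm_num

/-- isometries of odd order are in `Ω` -/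
theorem mem_om_of_odd (hQ : Nondeg Q) (hR : R ≤ Cfsg.isometryGroup F (⇑Q)) {x : GL (Fin 8) F} (hx : x ∈ R)
    (ho : Odd (orderOf x)) : x ∈ omegaGL (⇑Q) := by
  rw [H735.Rg.mem_om hQ hcard8]
  refine H735.Rg.mem_E_of_odd' (LieClassical.OrthFinite.good_of_finite hQ
    (by rw [Module.finrank_fintype_fun_eq_card]; exact hcard8)) ?_ ho ?_
  · rw [mem_O]
    intro v
    have h1 := LieClassical.OrthFinite.mem_isometryGroup_iff.1 (hR hx) v
    rw [glEquiv_apply]
    exact h1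
  · rw [← map_pow, pow_orderOf_eq_one, map_one]

/-- an element of prime order in `R ∩ Ω` -/
theorem exists_elt (hQ : Nondeg Q) (hR : R ≤ Cfsg.isometryGroup F (⇑Q)) {r : ℕ} (hr : r.Prime) (hr2 : r ≠ 2)
    (h : r ∣ Nat.card R) : ∃ x ∈ R ⊓ omegaGL (⇑Q), orderOf x = r := by
  have hfin : Finite (GL (Fin 8) F) := inferInstance
  have := Fact.mk hr
  obtain ⟨x, hx⟩ := exists_prime_orderOf_dvd_card' r h
  have ho : orderOf (x : GL (Fin 8) F) = r := by rw [Subgroup.orderOf_coe, hx]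
  exact ⟨x, ⟨x.2, mem_om_of_odd hQ hR x.2 (by rw [ho]; exact hr.odd_of_ne_two hr2)⟩, ho⟩

theorem exists_max (h : ¬ omegaGL (⇑Q) ≤ R) : ∃ M, IsMaximalIn (omegaGL (⇑Q)) M ∧ R ⊓ omegaGL (⇑Q) ≤ M :=
  H905.exists_isMaximalIn_of_lt (lt_of_le_of_ne inf_le_right fun h' => h (by rw [← h']; exact inf_le_left))

theorem PP_ne_two {n r : ℕ} (hn : 1 ≤ n) (h : PP 2 n r) : r ≠ 2 := by
  rintro rfl
  have h1 := h.ord
  have h2 : ((2 : ℕ) : ZMod 2) = 0 := by decide
  rw [h2] at h1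
  have h3 : orderOf (0 : ZMod 2) = 0 := by
    rw [orderOf_eq_zero_iff']
    intro m hm h
    rw [zero_pow (by omega)] at h
    exact absurd h (by decide)
  omega

/-- (1) -/
theorem one (hf : 4 ≤ f) (hF : Fintype.card F = 2 ^ f) (hQ : Nondeg Q) (hP : ¬ IsPlus Q)
    (hR : R ≤ Cfsg.isometryGroup F (⇑Q)) {r s : ℕ} (hr : PP 2 (f * 8) r) (hs : PP 2 (f * 6) s) (hrR : r ∣ Nat.card R)
    (hsR : s ∣ Nat.card R) : omegaGL (⇑Q) ≤ R := by
  by_contra hcon
  obtain ⟨M, hM, hRM⟩ := exists_max hcon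
  obtain ⟨t, ht, htf⟩ := H975.Cov.exists_r3 Nat.prime_two (by omega : 1 ≤ f) (cardF hF)
  have hn := num hf hF hr hs ht htf
  obtain ⟨a, ha, hao⟩ := exists_elt hQ hR hr.prime (PP_ne_two (by omega) hr) hrR
  obtain ⟨b, hb, hbo⟩ := exists_elt hQ hR hs.prime (PP_ne_two (by omega) hs) hsR
  have h6 : PP (Nat.card F) 6 s := by rw [cardF hF]; exact hs.of_pow (by omega)
  obtain ⟨X, U, hB⟩ := H975.Cov.bp_prime hQ hP h6 (hR hb.1) hbo
  exact H975.Cov.ab_false hn hQ hP hM (hRM ha) hao (hRM hb) hB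

/-- the index of `Ω` -/
theorem index_dvd (hf : 4 ≤ f) (hF : Fintype.card F = 2 ^ f) (hQ : Nondeg Q) (hR : R ≤ Cfsg.isometryGroup F (⇑Q)) :
    ∃ j, j ∣ 2 ∧ Nat.card R = Nat.card ↥(R ⊓ omegaGL (⇑Q)) * j := by
  have hfin : Finite (GL (Fin 8) F) := inferInstance
  have h2 := two_zero hf hF
  have hch : CharP F 2 := CharTwo.of_one_ne_zero_of_two_eq_zero one_ne_zero h2
  have hidx : (Cfsg.Omega F (⇑Q)).index = 2 := by
    refine S0789.result (by norm_num) Q ?_ (Or.inr (by norm_num))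
    exact LieClassical.OmegaReindex.nondegenerate_of_left Q hQ
  set I := Cfsg.isometryGroup F (⇑Q) with hI
  have hnorm : (Cfsg.Omega F (⇑Q)).Normal := by
    rw [Cfsg.Omega]
    infer_instance
  have hmap : (Cfsg.Omega F (⇑Q) ⊓ R.subgroupOf I).map I.subtype = R ⊓ omegaGL (⇑Q) := by
    rw [Subgroup.map_inf _ _ _ I.subtype_injective, Subgroup.subgroupOf_map_subtype, inf_eq_left.2 hR, inf_comm]
    rfl
  refine ⟨(Cfsg.Omega F (⇑Q)).relIndex (R.subgroupOf I), ?_, ?_⟩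
  · rw [← hidx]
    exact Subgroup.relIndex_dvd_index_of_normal _ _
  · rw [← hmap, Nat.card_congr ((Cfsg.Omega F (⇑Q) ⊓ R.subgroupOf I).equivMapOfInjective _ I.subtype_injective).symm.toEquiv,
      ← Nat.card_congr (Subgroup.subgroupOfEquivOfLe hR).toEquiv,
      ← Nat.card_congr (Subgroup.subgroupOfEquivOfLe (inf_le_right :
        Cfsg.Omega F (⇑Q) ⊓ R.subgroupOf I ≤ R.subgroupOf I)).toEquiv, Subgroup.inf_subgroupOf_right, Subgroup.relIndex,
      Subgroup.card_mul_index]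

/-- a property of the orders of the groups commuting with the field -/
def KG (F : Type) [Field F] [Fintype F] (Φ : ℕ → Prop) : Prop :=
  ∀ {L : Type} [Field L] [Finite L] [Algebra F L] {V : Type} [AddCommGroup V] [Module F V]
    [Module L V] [IsScalarTower F L V] [FiniteDimensional F V] {Q : QuadraticForm F V}, (2 : F) = 0 → Nondeg Q → ¬ IsPlus Q →
    finrank F V = 8 → finrank F L = 2 → (∀ (k : L) (u v : V), polar Q (k • u) v = polar Q u (k • v)) →
    (∀ (k : L) (v : V), polar Q (k • v) v = 0) →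
    ∀ P : Subgroup (V ≃ₗ[L] V), (∀ x ∈ P, ∀ v, Q (x v) = Q v) → Φ (Nat.card P)

/-- the commuting part, for an abstract field -/
theorem card_comm_dvd' {Φ : ℕ → Prop} (hKF : KG F Φ) (hQ : Nondeg Q) (hP : ¬ IsPlus Q) {L : Type} [Field L] [Finite L] [Algebra F L]
    (h2L : finrank F L = 2) (ρ : L →ₐ[F] Matrix (Fin 8) (Fin 8) F)
    (hadj : ∀ (k : L) (u v : Fin 8 → F), polar Q (Matrix.toLin' (ρ k) u) v = polar Q u (Matrix.toLin' (ρ k) v))
    (h20 : (2 : F) = 0) (hch2 : ∀ (k : L) (v : Fin 8 → F), polar Q (Matrix.toLin' (ρ k) v) v = 0)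
    {P : Subgroup (GL (Fin 8) F)} (hPQ : P ≤ Cfsg.isometryGroup F (⇑Q))
    (hPK : ∀ g ∈ P, ∀ k : L, (g : Matrix (Fin 8) (Fin 8) F) * ρ k = ρ k * (g : Matrix (Fin 8) (Fin 8) F)) :
    Φ (Nat.card P) := by
  let φ : L →+* Module.End F (Fin 8 → F) :=
    ((Matrix.toLinAlgEquiv' : Matrix (Fin 8) (Fin 8) F ≃ₐ[F] _).toAlgHom.comp ρ).toRingHom
  let _ : Module L (Fin 8 → F) := Module.compHom (Fin 8 → F) φ
  have hsm : ∀ (k : L) (v : Fin 8 → F), k • v = Matrix.toLin' (ρ k) v := fun k v => rfl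
  have hst : IsScalarTower F L (Fin 8 → F) := ⟨fun a k v => by
    rw [hsm, hsm, map_smul, map_smul]; rfl⟩
  let Ψ : P →* ((Fin 8 → F) ≃ₗ[L] (Fin 8 → F)) :=
    { toFun := fun g =>
        { toFun := fun v => lin (g : GL (Fin 8) F) v
          map_add' := fun v w => map_add _ v w
          map_smul' := fun k v => by
            show lin (g : GL (Fin 8) F) (k • v) = k • lin (g : GL (Fin 8) F) v
            rw [hsm, hsm, lin, Matrix.toLin'_apply, Matrix.toLin'_apply, Matrix.toLin'_apply, Matrix.toLin'_apply,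
              Matrix.mulVec_mulVec, Matrix.mulVec_mulVec, hPK g g.2 k]
          invFun := fun v => lin ((g : GL (Fin 8) F)⁻¹) v
          left_inv := fun v => by
            show lin ((g : GL (Fin 8) F)⁻¹) (lin (g : GL (Fin 8) F) v) = v
            rw [← H976.Rg.lin_mul, inv_mul_cancel, lin_one]; rfl
          right_inv := fun v => by
            show lin (g : GL (Fin 8) F) (lin ((g : GL (Fin 8) F)⁻¹) v) = v
            rw [← H976.Rg.lin_mul, mul_inv_cancel, lin_one]; rfl }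
      map_one' := by
        apply LinearEquiv.ext
        intro v
        show lin ((1 : P) : GL (Fin 8) F) v = v
        rw [Subgroup.coe_one, lin_one]; rfl
      map_mul' := fun g h => by
        apply LinearEquiv.ext
        intro v
        exact H976.Rg.lin_mul _ _ v }
  have hΨ : ∀ (g : P) (v : Fin 8 → F), Ψ g v = lin (g : GL (Fin 8) F) v := fun g v => rfl
  have hinj : Function.Injective Ψ := by
    intro g h hgh
    apply Subtype.ext
    apply lin_injective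
    apply LinearMap.ext
    intro v
    rw [← hΨ, ← hΨ, hgh]
  have hcard : Nat.card Ψ.range = Nat.card P := (Nat.card_congr (MonoidHom.ofInjective hinj).toEquiv).symm
  have h8' : finrank F (Fin 8 → F) = 8 := H975.Cov.finV
  have hmain := hKF (L := L) h20 hQ hP h8' h2L (fun k u v => hadj k u v) (fun k v => hch2 k v) Ψ.range (by
      rintro _ ⟨g, rfl⟩ v
      rw [hΨ]
      exact lin_iso hPQ g.2 v)
  rw [hcard] at hmain
  exact hmain

theorem card_comm_dvd {Φ : ℕ → Prop} (hKF : KG F Φ) (hQ : Nondeg Q) (hP : ¬ IsPlus Q)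
    {K : Subalgebra F (Matrix (Fin 8) (Fin 8) F)} (hK : IsFieldSubalgebra 2 K)
    (hadj : ∀ J ∈ K, ∀ u v, polar Q (Matrix.toLin' J u) v = polar Q u (Matrix.toLin' J v))
    (h20 : (2 : F) = 0) (hch2 : ∀ J ∈ K, ∀ v, polar Q (Matrix.toLin' J v) v = 0)
    {P : Subgroup (GL (Fin 8) F)} (hPQ : P ≤ Cfsg.isometryGroup F (⇑Q))
    (hPK : ∀ g ∈ P, ∀ x ∈ K, (g : Matrix (Fin 8) (Fin 8) F) * x = x * (g : Matrix (Fin 8) (Fin 8) F)) :
    Φ (Nat.card P) := by
  let _ : Field K := (H912.isField_of_fieldSub hK).toField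
  have hfin : Finite K := Module.finite_of_finite F
  have h2L : finrank F K = 2 := hK.finrank_eq
  exact card_comm_dvd' hKF hQ hP (L := K) h2L K.val (fun k => hadj k k.2) h20 (fun k => hch2 k k.2) hPQ
    (fun g hg k => hPK g hg k k.2)

/-- the self-adjoint property of the field -/
theorem field_props (hQ : Nondeg Q) {K : Subalgebra F (Matrix (Fin 8) (Fin 8) F)} (hK : IsFieldSubalgebra 2 K)
    (h20 : (2 : F) = 0) (hR : R ≤ Cfsg.isometryGroup F (⇑Q)) (hRK : R ≤ subalgebraNormalizer K) {a : GL (Fin 8) F} {r : ℕ}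
    (hr : PP (Nat.card F) 8 r) (ha : a ∈ R) (hao : orderOf a = r) :
    (∀ J ∈ K, ∀ u v, polar Q (Matrix.toLin' J u) v = polar Q u (Matrix.toLin' J v)) ∧
    (∀ J ∈ K, ∀ v, polar Q (Matrix.toLin' J v) v = 0) := by
  obtain ⟨hiso, ha1⟩ := H975.Cov.iso_of hr (by norm_num) (hR ha) hao
  have hirr : ∀ W : Submodule F (Fin 8 → F), Inv (lin a) W → W = ⊥ ∨ W = ⊤ := H975.Cov.a_irr hQ hr (hR ha) hao
  have hca := H975.Cov.comm_field' hK (hRK ha) (r := r) (by
    have h1 := hiso.two_lt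
    exact (Nat.coprime_primes hiso.prime Nat.prime_two).2 (by omega)) (by rw [← hao, pow_orderOf_eq_one])
  have hak : (lin a) ^ (Nat.card F ^ 4 + 1) = 1 := by
    obtain ⟨c, hc⟩ := H976.Rg.dvd_of_pp hr
    rw [hc, pow_mul, hiso.pow, one_pow]
  let _ : Field K := (H912.isField_of_fieldSub hK).toField
  have hKfin : Finite K := Module.finite_of_finite F
  let _ : Fintype K := Fintype.ofFinite K
  have hcard : Fintype.card K = Nat.card F ^ 2 := by
    rw [Module.card_eq_pow_finrank (K := F) (V := K), hK.finrank_eq, Nat.card_eq_fintype_card]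
  have hpow : ∀ J ∈ K, J ^ (Nat.card F ^ 4) = J := by
    intro J hJ
    have h1 : ∀ k : K, k ^ (Nat.card F ^ 4) = k := by
      intro k
      rw [show Nat.card F ^ 4 = Fintype.card K * Fintype.card K by rw [hcard]; ring, pow_mul, FiniteField.pow_card,
        FiniteField.pow_card]
    exact congrArg Subtype.val (h1 ⟨J, hJ⟩)
  have hadj : ∀ J ∈ K, ∀ u v, polar Q (Matrix.toLin' J u) v = polar Q u (Matrix.toLin' J v) := by
    intro J hJ u v
    have h1 := H975.Cov.adj_main (Q := Q) (x := lin a) (J := Matrix.toLin' J) (U := ⊤) H951.inv_top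
      (fun W _ hW => hirr W hW) H951.inv_top (fun w => H975.Cov.comm_lin hca hJ w) hiso.iso (k := 4) hak
      (u := u) (v := v) trivial trivial
    rw [h1]
    have h2 : (Matrix.toLin' J) ^ (Nat.card F ^ 4) = Matrix.toLin' J := by
      have h3 : Matrix.toLin' (J ^ (Nat.card F ^ 4)) = (Matrix.toLin' J) ^ (Nat.card F ^ 4) :=
        map_pow (Matrix.toLinAlgEquiv' : Matrix (Fin 8) (Fin 8) F ≃ₐ[F] _) J _
      rw [← h3, hpow J hJ]
    rw [h2]
  refine ⟨hadj, fun J hJ v => ?_⟩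
  exact H976.Rg.polar_J_zero h20 hirr (fun w => H975.Cov.comm_lin hca hJ w) hiso.iso (hadj J hJ)
    (by rw [H975.Cov.finV]; norm_num) v

/-- (2) -/
theorem two {Φ : ℕ → Prop} (hK : KG F Φ) (hf : 4 ≤ f) (hF : Fintype.card F = 2 ^ f) (hQ : Nondeg Q) (hP : ¬ IsPlus Q)
    (hR : R ≤ Cfsg.isometryGroup F (⇑Q)) {r : ℕ} (hr : PP 2 (f * 8) r) (hrR : r ∣ Nat.card R) :
    omegaGL (⇑Q) ≤ R ∨ ∃ n j, j ∣ 2 ∧ Nat.card R = n * j ∧ Φ n := by
  by_cases hcon : omegaGL (⇑Q) ≤ R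
  · exact Or.inl hcon
  right
  obtain ⟨M, hM, hRM⟩ := exists_max hcon
  have h1f : 1 ≤ f := by omega
  have hqf : 2 ^ 4 ≤ 2 ^ f := Nat.pow_le_pow_right (by norm_num) hf
  obtain ⟨t, ht, htf⟩ := H975.Cov.exists_r3 Nat.prime_two h1f (cardF hF)
  obtain ⟨s, hs⟩ := exists_ppp (e := 6) Nat.prime_two h1f (by norm_num) (by omega) (fun b hb => by omega)
  have hn := num hf hF hr hs ht htf
  have h8 := hn.h8q
  obtain ⟨a, ha, hao⟩ := exists_elt hQ hR hr.prime (PP_ne_two (by omega) hr) hrR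
  have hirr := H975.Cov.a_irr hQ h8 (hR ha.1) hao
  obtain ⟨K, hK2, hMK⟩ := H975.Cov.a_case hn hQ hP hM (hRM ha) hao
  have hodd : Odd r := h8.odd (by norm_num)
  have hRK : R ≤ subalgebraNormalizer K := by
    refine H735.Rg.le_normalizer hK2 (N := R ⊓ omegaGL (⇑Q)) ?_ (hRM.trans hMK) ha ?_ ?_
    · rintro h hh x ⟨hx, hxO⟩
      refine ⟨R.mul_mem (R.mul_mem hh hx) (R.inv_mem hh), ?_⟩
      have h1 := (H735.Rg.mem_om hQ hcard8 x).1 hxO
      refine (H735.Rg.mem_om hQ hcard8 _).2 ?_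
      rw [map_mul, map_mul, map_inv]
      refine conj_mem_E ?_ h1
      rw [mem_O]
      intro v
      have h1 := LieClassical.OrthFinite.mem_isometryGroup_iff.1 (hR hh) v
      rw [glEquiv_apply]
      exact h1
    · rw [hao]
      exact Nat.coprime_two_right.2 hodd
    · intro W hW
      exact hirr W hW
  obtain ⟨hadj, hch2⟩ := field_props hQ hK2 (two_zero hf hF) hR hRK h8 ha.1 hao
  obtain ⟨P, hPR, hPK, j, hj, hRj⟩ := H976.Rg.card_le_two_mul hK2 hRK
  have h1 := card_comm_dvd hK hQ hP hK2 hadj (two_zero hf hF) hch2 (hPR.trans hR) hPK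
  refine ⟨Nat.card P, j, ?_, hRj, h1⟩
  have hfin : Finite (GL (Fin 8) F) := inferInstance
  have hj0 : j ≠ 0 := by
    rintro rfl
    rw [mul_zero] at hRj
    exact Nat.card_pos.ne' hRj
  interval_cases j
  · exact (hj0 rfl).elim
  · exact one_dvd _
  · exact dvd_rfl

/-- (3) -/
theorem three (hPt : Pt) (hf : 4 ≤ f) (hF : Fintype.card F = 2 ^ f) (hQ : Nondeg Q) (hP : ¬ IsPlus Q)
    (hR : R ≤ Cfsg.isometryGroup F (⇑Q)) {s t : ℕ} (hs : PP 2 (f * 6) s) (ht : PP 2 (f * 3) t) (hsR : s ∣ Nat.card R)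
    (htR : t ∣ Nat.card R) :
    omegaGL (⇑Q) ≤ R ∨ (Nat.card R).factorization 2 ≤ 6 * f + 1 + f.factorization 2 ∨
      (9 * f ≤ (Nat.card R).factorization 2 ∧ (Nat.card R).factorization 2 ≤ 9 * f + 1) := by
  by_cases hcon : omegaGL (⇑Q) ≤ R
  · exact Or.inl hcon
  right
  obtain ⟨M, hM, hRM⟩ := exists_max hcon
  have h1f : 1 ≤ f := by omega
  have hqf : 2 ^ 4 ≤ 2 ^ f := Nat.pow_le_pow_right (by norm_num) hf
  obtain ⟨r, hr⟩ := exists_ppp (e := 8) Nat.prime_two h1f (by norm_num) (by omega) (fun b hb => by omega)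
  have h3 : PP (Nat.card F) 3 t := by rw [cardF hF]; exact ht.of_pow h1f
  have htf : ¬ t ∣ f := H975.Cov.pp_dvd_of_pow ht h1f (by norm_num)
  have hn := num hf hF hr hs h3 htf
  obtain ⟨b, hb, hbo⟩ := exists_elt hQ hR hs.prime (PP_ne_two (by omega) hs) hsR
  obtain ⟨c, hc, hco⟩ := exists_elt hQ hR ht.prime (PP_ne_two (by omega) ht) htR
  have h6 : PP (Nat.card F) 6 s := by rw [cardF hF]; exact hs.of_pow h1f
  obtain ⟨X, U, hB⟩ := H975.Cov.bp_prime hQ hP h6 (hR hb.1) hbo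
  have hMI : M ≤ Cfsg.isometryGroup F (⇑Q) := hM.1.le.trans H975.Cov.omegaGL_le'
  have hck := fun h => H975.Cov.c_kill hn hQ hP hMI (hRM hc) hco h
  have hfin : Finite (GL (Fin 8) F) := inferInstance
  rcases H975.Cov.b_case hn hQ hP hM (hRM hb) hbo hB with h | ⟨h, -⟩ | h | ⟨-, v, hv, hW⟩ | h | h
  · exact (hck (Or.inl h)).elim
  · exfalso
    rw [cardF hF] at h
    exact (Nat.not_odd_iff_even.2 ((Nat.even_pow' (by omega)).2 even_two)) h
  · exact (hck (Or.inr (Or.inl h))).elim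
  · obtain ⟨j, hj, hRj⟩ := index_dvd hf hF hQ hR
    have h1 := hPt hf hF Q hQ v hv (R ⊓ omegaGL (⇑Q)) inf_le_right (hRM.trans hW) hs ht
      (by rw [← hbo]; exact Subgroup.orderOf_dvd_natCard _ hb) (by rw [← hco]; exact Subgroup.orderOf_dvd_natCard _ hc)
    have hj0 : j ≠ 0 := by
      rintro rfl
      norm_num at hj
    have h2 : (Nat.card R).factorization 2 = (Nat.card ↥(R ⊓ omegaGL (⇑Q))).factorization 2 + j.factorization 2 := by
      rw [hRj, Nat.factorization_mul Nat.card_pos.ne' hj0]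
      rfl
    have h3 : j.factorization 2 ≤ 1 := by
      have h4 := (Nat.factorization_le_iff_dvd hj0 two_ne_zero).2 hj 2
      rwa [Nat.Prime.factorization_self Nat.prime_two] at h4
    omega
  · exact (hck (Or.inr (Or.inr (Or.inl h)))).elim
  · exact (hck (Or.inr (Or.inr (Or.inr h)))).elim

end Core

end Cfsg.Agent.H815.Rs
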