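import Cfsg.Agent.H815.Rs.LForm
import Cfsg.Agent.H815.Rs.Core8
import Cfsg.Agent.LieClassical.OrthFourMinus
import Cfsg.Agent.LieClassical.PomegaCard
import Cfsg.Agent.S0789

/-!
# S3691: subgroups of `O_4^-(q^2)` with `r_8` (helper815)
-/

set_option autoImplicit false
set_option linter.unusedSectionVars false

namespace Cfsg.Agent.H815.Rs

open Module QuadraticMap Cfsg Cfsg.Geo Cfsg.Agent.LieClassical.OrthCore Cfsg.Agent.H955
open Cfsg.Agent.H659.Rs (Pm BoxPsl2)
open Cfsg.Agent.LieClassical.OrthFinite (glEquiv glEquiv_apply)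
open scoped MatrixGroups Matrix

/-- subgroups of `O_4^-(s)`, `s = 2 ^ (2 f)` -/
theorem iso_four (hB : BoxPsl2) {L : Type} [Field L] [Fintype L] {f r : ℕ} (hf : 4 ≤ f) (hL : Fintype.card L = 2 ^ (2 * f))
    (hr : Pm (8 * f) r) {a b : L} (hab : ∀ z₁ z₂ : L, z₁ ^ 2 + a * z₁ * z₂ + b * z₂ ^ 2 = 0 → z₁ = 0 ∧ z₂ = 0)
    (P : Subgroup (Cfsg.isometryGroup L (Cfsg.quadFormMinus 1 L a b))) (hrP : r ∣ Nat.card P) :
    4 * f ≤ (Nat.card P).factorization 2 ∨ Nat.card P ∣ 4 * ((2 ^ f) ^ 4 + 1) := by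
  have h2 : (2 : L) = 0 := by
    have h1 : ((Fintype.card L : ℕ) : L) = 0 := FiniteField.cast_card_eq_zero L
    rw [hL, Nat.cast_pow] at h1
    exact_mod_cast pow_eq_zero_iff (by omega) |>.1 h1
  have hch : CharP L 2 := CharTwo.of_one_ne_zero_of_two_eq_zero one_ne_zero h2
  set Q := LieClassical.OmegaReindex.quadMinus 1 L a b with hQ
  have hQc : ⇑Q = Cfsg.quadFormMinus 1 L a b := LieClassical.OmegaReindex.coe_quadMinus 1 L a b
  have hQn : (polarBilin Q).Nondegenerate := LieClassical.OmegaReindex.quadMinus_nondegenerate hab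
  set N := Cfsg.Omega L (Cfsg.quadFormMinus 1 L a b) with hN
  have hnorm : N.Normal := by
    rw [hN, Cfsg.Omega]
    infer_instance
  have hL4 : 2 ^ 8 ≤ Fintype.card L := by
    rw [hL]
    exact Nat.pow_le_pow_right (by norm_num) (by omega)
  have hidx : N.index = 2 := by
    rw [hN, ← hQc]
    refine LieClassical.OmegaReindex.index_omega_of_fin (n := 4) (k := 2) ?_ (fun Q' hQ' =>
      S0789.result (by norm_num) Q' hQ' (Or.inl (by omega))) Q hQn
    rw [Fintype.card_sum, Fintype.card_sum, Fintype.card_fin, Fintype.card_fin]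
  have hcen : Nat.card (Subgroup.center N) = 1 := by
    have h1 := LieClassical.OmegaCenter.card_center_omega_two h2 Q hQn
      (by rw [Fintype.card_sum, Fintype.card_sum, Fintype.card_fin, Fintype.card_fin]; norm_num)
      (LieClassical.OmegaReindex.quadMinus_isotropic (by norm_num) a b)
    rw [hQc] at h1
    exact h1
  have hcO : Nat.card (Cfsg.isometryGroup L (Cfsg.quadFormMinus 1 L a b)) = 2 * ((2 ^ (4 * f)) * (2 ^ (8 * f) - 1)) := by
    rw [card_iso_four hab, Nat.card_eq_fintype_card, hL, ← pow_mul, ← pow_mul]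
    congr 3
    · ring
    · congr 1
      ring
  have hcN : Nat.card N = 2 ^ (4 * f) * (2 ^ (8 * f) - 1) := by
    have h1 := N.index_mul_card
    rw [hidx, hcO] at h1
    omega
  -- the field `F_{s^2}`
  let K := GaloisField 2 (4 * f)
  let _ : Fintype K := Fintype.ofFinite K
  have hK : Fintype.card K = 2 ^ (4 * f) := by
    rw [← Nat.card_eq_fintype_card, GaloisField.card 2 (4 * f) (by omega)]
  obtain ⟨e⟩ := LieClassical.OrthFourMinus.pomega_equiv (K := K) hL (by rw [hK, ← pow_mul]; congr 1; ring) a b hab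
  -- the intersection with `Omega`
  have hrp := hr.prime
  have hr2 : r ≠ 2 := by
    rintro rfl
    have h1 := hr.ord
    have h2 : ((2 : ℕ) : ZMod 2) = 0 := by decide
    rw [h2] at h1
    have h3 : orderOf (0 : ZMod 2) = 0 := by
      rw [orderOf_eq_zero_iff']
      intro m hm h
      rw [zero_pow (by omega)] at h
      exact absurd h (by decide)
    omega
  obtain ⟨j, hj, hPj⟩ : ∃ j, j ∣ 2 ∧ Nat.card P = Nat.card (P.subgroupOf N) * j := by
    refine ⟨N.relIndex P, ?_, ?_⟩
    · have h1 := Subgroup.relIndex_dvd_index_of_normal N P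
      rwa [hidx] at h1
    · have h1 : Nat.card (P.subgroupOf N) = Nat.card (N.subgroupOf P) := by
        rw [← Subgroup.inf_subgroupOf_right N P, ← Subgroup.inf_subgroupOf_left P N,
          Nat.card_congr (Subgroup.subgroupOfEquivOfLe (inf_le_left : N ⊓ P ≤ N)).toEquiv,
          Nat.card_congr (Subgroup.subgroupOfEquivOfLe (inf_le_right : N ⊓ P ≤ P)).toEquiv]
      rw [h1, Subgroup.relIndex, Subgroup.card_mul_index]
  set P0 := P.subgroupOf N with hP0
  have hrP0 : r ∣ Nat.card P0 := by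
    rw [hPj] at hrP
    rcases hrp.dvd_mul.1 hrP with h | h
    · exact h
    · exact absurd ((Nat.prime_dvd_prime_iff_eq hrp Nat.prime_two).1 (h.trans hj)) hr2
  -- the projection
  have hinj : Function.Injective (QuotientGroup.mk' (Subgroup.center N)) := by
    rw [← MonoidHom.ker_eq_bot_iff, QuotientGroup.ker_mk', ← Subgroup.card_eq_one]
    exact hcen
  set R1 : Subgroup (Cfsg.POmega L (Cfsg.quadFormMinus 1 L a b)) := P0.map (QuotientGroup.mk' (Subgroup.center N)) with hR1
  have hcR1 : Nat.card R1 = Nat.card P0 := Subgroup.card_map_of_injective hinj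
  have hfinP : Finite (Cfsg.POmega L (Cfsg.quadFormMinus 1 L a b)) := Finite.of_equiv _ e.symm.toEquiv
  have hPm : Pm (2 * (4 * f)) r := by
    have h1 : 2 * (4 * f) = 8 * f := by ring
    rw [h1]
    exact hr
  have hpow4 : 2 ^ (4 * f) = (2 ^ f) ^ 4 := by rw [← pow_mul, mul_comm]
  rcases hB (by omega) hK ⟨e⟩ hPm R1 (by rw [hcR1]; exact hrP0) with h | h
  · left
    have h1 : P0 = ⊤ := by
      rw [eq_top_iff]
      intro x _
      have h2 : QuotientGroup.mk' (Subgroup.center N) x ∈ R1 := by rw [h]; trivial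
      obtain ⟨y, hy, hyx⟩ := h2
      rw [← hinj hyx]
      exact hy
    have h3 : Nat.card P0 = 2 ^ (4 * f) * (2 ^ (8 * f) - 1) := by
      rw [h1, Subgroup.card_top, hcN]
    have h4 : 2 ^ (4 * f) ∣ Nat.card P := by
      rw [hPj, h3, mul_assoc]
      exact Dvd.intro _ rfl
    exact (Nat.prime_two.pow_dvd_iff_le_factorization Nat.card_pos.ne').1 h4
  · right
    rw [hcR1] at h
    rw [hPj, ← hpow4, show 4 * (2 ^ (4 * f) + 1) = 2 * (2 ^ (4 * f) + 1) * 2 by ring]
    exact Nat.mul_dvd_mul h hj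

/-- the order of the commuting part -/
theorem kG (hB : BoxPsl2) {F : Type} [Field F] [Fintype F] {f r : ℕ} (hf : 4 ≤ f) (hF : Fintype.card F = 2 ^ f)
    (hr : Pm (8 * f) r) :
    KG F (fun n => n ∣ 2 * ((2 ^ f) ^ 4 * ((2 ^ f) ^ 8 - 1)) ∧
      (r ∣ n → 4 * f ≤ n.factorization 2 ∨ n ∣ 4 * ((2 ^ f) ^ 4 + 1))) := by
  intro L _ _ _ V _ _ _ _ _ Q h20 hQ hP h8 h2L hadj hch2 P hPQ
  have hcF : CharP F 2 := CharTwo.of_one_ne_zero_of_two_eq_zero one_ne_zero h20
  have hcL : CharP L 2 := (Algebra.charP_iff F L 2).1 hcF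
  have hfdL : FiniteDimensional L V := Module.Finite.of_restrictScalars_finite F L V
  have hfL : Module.Finite F L := Module.Finite.of_finite
  have h4 : finrank L V = 4 := by
    have h1 := Module.finrank_mul_finrank F L V
    rw [h2L, h8] at h1
    omega
  refine ⟨?_, fun hrP => ?_⟩
  · have h1 := kForm h20 hQ hP h8 h2L hadj hch2 P hPQ
    rwa [Nat.card_eq_fintype_card (α := F), hF] at h1
  · let _ : Fintype L := Fintype.ofFinite L
    have hcL : Fintype.card L = 2 ^ (2 * f) := by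
      have h2 : Nat.card L = Nat.card F ^ 2 := by
        rw [Module.natCard_eq_pow_finrank (K := F) (V := L), h2L]
      rw [← Nat.card_eq_fintype_card, h2, Nat.card_eq_fintype_card, hF, ← pow_mul, mul_comm]
    obtain ⟨a, b, hab, P', hP'⟩ := exists_iso_four (nondeg_lform hadj hch2 hQ) (not_plus_lform hadj hch2 hP) h4
      (P := P) (fun x hx v => lform_map hadj hch2 (hPQ x hx) v)
    have h5 := iso_four hB hf hcL hr hab P' (by rw [hP']; exact hrP)
    rwa [hP'] at h5

end Cfsg.Agent.H815.Rs
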