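import Cfsg.Agent.H815.Rs.Core8
import Cfsg.Agent.H485.Rg.RelU
import Cfsg.Agent.H96.Rg.SixEven
import Cfsg.Agent.H212.Rg.Minus8
import Cfsg.Agent.H883.Bridge
import Cfsg.Agent.S0245

/-!
# S3691, `O_8^±(2^f)`: the stabiliser of a nonsingular point (helper815)
-/

set_option autoImplicit false
set_option linter.unusedSectionVars false

namespace Cfsg.Agent.H815.Rs

open Module QuadraticMap Cfsg Cfsg.Geo Cfsg.Agent.LieClassical.OrthCore Cfsg.Agent.LieClassical.OrthTrans
  Cfsg.Agent.H955 Cfsg.Agent.H954.TSing Cfsg.Agent.H884.El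
open Cfsg.Agent.H951 (fx cm Inv)
open Cfsg.Agent.H876 (spToGL)
open Cfsg.Agent.LieClassical.OrthFinite (glEquiv glEquiv_apply)
open scoped MatrixGroups Matrix

variable {F : Type} [Field F] [Fintype F]

theorem card_spGL (m : ℕ) : Nat.card (spGL m F) =
    Fintype.card F ^ (m ^ 2) * ∏ i ∈ Finset.range m, (Fintype.card F ^ (2 * (i + 1)) - 1) := by
  rw [← S0245.result rfl m, ← H931.map_spToGL_top, Subgroup.card_map_of_injective, Subgroup.card_top]
  intro a b hab
  apply Subtype.ext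
  exact congrArg Units.val hab

theorem v2_spGL {f : ℕ} (hf : 4 ≤ f) (hF : Fintype.card F = 2 ^ f) : (Nat.card (spGL 3 F)).factorization 2 = 9 * f := by
  have hodd : ∀ k : ℕ, 1 ≤ k → ¬ 2 ∣ (2 ^ f) ^ k - 1 := by
    intro k hk h
    have h1 : 1 ≤ (2 ^ f) ^ k := Nat.one_le_pow _ _ (by positivity)
    have h2 : 2 ∣ (2 ^ f) ^ k := dvd_pow (dvd_pow_self 2 (by omega)) (by omega)
    omega
  have h0 : ∏ i ∈ Finset.range 3, ((2 ^ f) ^ (2 * (i + 1)) - 1) ≠ 0 := by
    intro h
    obtain ⟨i, -, hi⟩ := Finset.prod_eq_zero_iff.1 h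
    exact hodd (2 * (i + 1)) (by omega) (by rw [hi]; exact dvd_zero 2)
  have h2 : (∏ i ∈ Finset.range 3, ((2 ^ f) ^ (2 * (i + 1)) - 1)).factorization 2 = 0 := by
    apply Nat.factorization_eq_zero_of_not_dvd
    intro h
    obtain ⟨i, -, hi⟩ := (Nat.prime_two.prime.dvd_finset_prod_iff _).1 h
    exact hodd (2 * (i + 1)) (by omega) hi
  rw [card_spGL, hF, Nat.factorization_mul (by positivity) h0, Finsupp.add_apply, h2, ← pow_mul,
    Nat.Prime.factorization_pow Nat.prime_two, Finsupp.single_eq_same, add_zero]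
  ring

/-- **(Pt)** -/
theorem pt : Pt := by
  intro F _ _ f s t hf hF Q hQ v hv R hRo hRs h6 h3 hsR htR
  have h2 := two_zero hf hF
  have hG : Good Q := LieClassical.OrthFinite.good_of_finite hQ
    (by rw [Module.finrank_fintype_fun_eq_card]; exact hcard8)
  have hRO : R ≤ Cfsg.isometryGroup F (⇑Q) := hRo.trans H975.Cov.omegaGL_le'
  have hv0 : v ≠ 0 := by
    rintro rfl
    exact hv (QuadraticMap.map_zero Q)
  obtain ⟨U, hU, hU0⟩ := H485.Rg.exists_compl (Q := Q) (v := v) h2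
  set A : Subgroup ((Fin 8 → F) ≃ₗ[F] (Fin 8 → F)) := R.map (glEquiv (Fin 8) F).toMonoidHom with hA
  have hAE : A ≤ E Q := by
    rw [← H883.Bridge.map_omegaGL_eq_E hG]
    exact Subgroup.map_mono hRo
  have hAO : A ≤ O Q := hAE.trans (E_le_O (Q := Q))
  have hAv : ∀ a ∈ A, a v = v := by
    rintro _ ⟨g, hg, rfl⟩
    obtain ⟨c, hc, hcv⟩ := H975.Cov.exists_eig hRO hv hRs hg
    have hc1 : c = 1 := by
      have h3 : (c - 1) * (c - 1) = 0 := by linear_combination hc - c * h2 + h2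
      rcases mul_eq_zero.1 h3 with h | h <;> exact sub_eq_zero.1 h
    rw [hc1, one_smul] at hcv
    exact hcv
  have hfinE : Finite ((Fin 8 → F) ≃ₗ[F] (Fin 8 → F)) :=
    Finite.of_injective (fun e : (Fin 8 → F) ≃ₗ[F] (Fin 8 → F) => (e : (Fin 8 → F) → (Fin 8 → F))) DFunLike.coe_injective
  have hcard : Nat.card (H485.Rg.bar A U v hAv) = Nat.card R := by
    rw [H485.Rg.card_bar hAO hAv hU hU0 (fun a ha hp => H212.Rg.faithful_even h2 hQ
      (by rw [H975.Cov.finV]; norm_num) hv (hAE ha) (hAv a ha) hp), hA]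
    exact Subgroup.card_map_of_injective (glEquiv (Fin 8) F).injective
  have hU6 : finrank F U = 6 := by
    have := H485.Rg.finrank_compl hQ hv0 hU hU0
    rw [H975.Cov.finV] at this
    omega
  have hnU := H485.Rg.nondeg_compl hQ hU hU0
  by_cases hle : (Nat.card R).factorization 2 ≤ 6 * f + f.factorization 2
  · exact Or.inl hle
  right
  push Not at hle
  have hpol : ∀ y ∈ H485.Rg.bar A U v hAv, ∀ u w, polar (res Q U) (y u) (y w) = polar (res Q U) u w :=
    fun y hy => H485.Rg.bar_polar h2 hAO hU hy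
  obtain ⟨φ, hφ⟩ := H96.Rg.exists_coord h2 hnU (n := 3) hU6
  have hmap : (H485.Rg.bar A U v hAv).map (H96.Rg.cj φ).toMonoidHom = spGL 3 F := by
    apply le_antisymm
    · rintro _ ⟨y, hy, rfl⟩
      refine (H931.mem_spGL_iff (g := H96.Rg.cj φ y)).2 ?_
      intro a b
      rw [H96.Rg.cj_apply, H96.Rg.cj_apply, hφ, hpol y hy, ← hφ, φ.apply_symm_apply, φ.apply_symm_apply]
    · intro g hg
      refine ⟨(H96.Rg.cj φ).symm g, ?_, (H96.Rg.cj φ).apply_symm_apply g⟩
      refine H96.Rg.six_even hnU hU6 hf hF h6 h3 hpol (by rw [hcard]; exact hsR) (by rw [hcard]; exact htR)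
        (by rw [hcard]; exact hle) ?_
      intro u w
      have h4 : ∀ u, φ ((H96.Rg.cj φ).symm g u) = (g : Matrix _ _ F) *ᵥ φ u := by
        intro u
        have h5 := H96.Rg.cj_apply φ ((H96.Rg.cj φ).symm g) (φ u)
        rw [φ.symm_apply_apply, (H96.Rg.cj φ).apply_symm_apply] at h5
        exact h5.symm
      rw [← hφ, ← hφ, h4, h4]
      exact H931.mem_spGL_iff.1 hg _ _
  rw [← hcard, ← v2_spGL hf hF, ← hmap, Subgroup.card_map_of_injective (H96.Rg.cj φ).injective]

end Cfsg.Agent.H815.Rs
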