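import Cfsg.Agent.H815.Rs.Core8
import Cfsg.Agent.H815.Rs.LRef
import Cfsg.Agent.H815.Rs.Pt8

/-!
# S3691, `O_8^-(2^f)`: the box (helper815)
-/

set_option autoImplicit false
set_option linter.unusedSectionVars false

namespace Cfsg.Agent.H815.Rs

open Module QuadraticMap Cfsg Cfsg.Geo Cfsg.Agent.LieClassical.OrthCore Cfsg.Agent.H955 Cfsg.Agent.H884.El
open Cfsg.Agent.H659.Rs (Pm v2 BoxPsl2 BoxO8m)
open Cfsg.Agent.LieClassical.OmegaReindex (glReindex map_isometryGroup reindexForm)
open scoped MatrixGroups Matrix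

theorem omegaGL_eq {ι F : Type} [Fintype ι] [DecidableEq ι] [Field F] (Q : (ι → F) → F) :
    omegaGL Q = ⁅Cfsg.isometryGroup F Q, Cfsg.isometryGroup F Q⁆ := by
  rw [omegaGL, Cfsg.Omega]
  exact Subgroup.map_subtype_commutator _

theorem pp_of {n f r k : ℕ} (hk : n = k * f) (h : Pm n r) : PP 2 (f * k) r := by
  subst hk
  exact ⟨h.prime, by rw [mul_comm f k]; exact h.ord⟩

/-- **the box** -/
theorem boxO8m (hB : BoxPsl2) : BoxO8m := by
  intro F _ _ f hf hF Q₀ hQ₀ hP₀ R hR
  let e : Fin 4 ⊕ Fin 4 ≃ Fin 8 := finSumFinEquiv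
  let Q₁ : QuadraticForm F (Fin 4 ⊕ Fin 4 → F) := H884.OmegaGL.bundle Q₀ hQ₀
  let Q : QuadraticForm F (Fin 8 → F) := reindexForm e Q₁
  have hQe : ∀ v, Q v = Q₀ (v ∘ e) := fun v => rfl
  have hQ : Nondeg Q := by
    intro v hv
    by_contra hv0
    have hv1 : v ∘ e ≠ 0 := by
      intro h
      apply hv0
      funext i
      have h1 := congrFun h (e.symm i)
      simpa using h1
    obtain ⟨y, hy⟩ := (hQ₀.nondegenerate (v ∘ e) hv1).2
    apply hy
    have h1 := hv (y ∘ e.symm)
    have h2 : polar (⇑Q) v (y ∘ e.symm) = polar Q₀ (v ∘ e) ((y ∘ e.symm) ∘ e) := rfl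
    rw [h2, Function.comp_assoc, Equiv.symm_comp_self, Function.comp_id] at h1
    exact h1
  have hP : ¬ IsPlus Q := by
    rintro ⟨U, hU, hd⟩
    apply hP₀
    refine ⟨U.map (LinearEquiv.funCongrLeft F F e).toLinearMap, le_top, ?_, ?_⟩
    · rintro _ ⟨u, hu, rfl⟩
      exact hU u hu
    · rw [H955.finrank_map_of_injective _ (LinearEquiv.injective _), hd, finrank_top,
        Module.finrank_fintype_fun_eq_card, Module.finrank_fintype_fun_eq_card, Fintype.card_sum, Fintype.card_fin,
        Fintype.card_fin]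
  have hmapI := map_isometryGroup e Q₀ (⇑Q) hQe
  have hmapO : (omegaGL Q₀).map (glReindex F e).toMonoidHom = omegaGL (⇑Q) := by
    rw [omegaGL_eq, omegaGL_eq, Subgroup.map_commutator, hmapI]
  set R' := R.map (glReindex F e).toMonoidHom with hR'
  have hR'I : R' ≤ Cfsg.isometryGroup F (⇑Q) := by
    rw [← hmapI]
    exact Subgroup.map_mono hR
  have hcard : Nat.card R' = Nat.card R := Subgroup.card_map_of_injective (glReindex F e).injective
  have hom : omegaGL (⇑Q) ≤ R' → omegaGL Q₀ ≤ R := by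
    intro h
    rw [← hmapO] at h
    exact (Subgroup.map_le_map_iff_of_injective (glReindex F e).injective).1 h
  refine ⟨fun r s hr hs hrR hsR => ?_, fun r hr hrR => ?_, fun s t hs ht hsR htR => ?_⟩
  · exact hom (one hf hF hQ hP hR'I (pp_of rfl hr) (pp_of rfl hs) (by rw [hcard]; exact hrR) (by rw [hcard]; exact hsR))
  · rcases two (Φ := fun n => n ∣ 2 * ((2 ^ f) ^ 4 * ((2 ^ f) ^ 8 - 1)) ∧
        (r ∣ n → 4 * f ≤ n.factorization 2 ∨ n ∣ 4 * ((2 ^ f) ^ 4 + 1))) (kG hB hf hF hr) hf hF hQ hP hR'I (pp_of rfl hr) (by rw [hcard]; exact hrR) with h | ⟨n, j, hj, hRj, hn, hn2⟩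
    · exact Or.inl (hom h)
    · right
      rw [hcard] at hRj
      refine ⟨?_, fun hlt => ?_⟩
      · rw [hRj, show 4 * ((2 ^ f) ^ 4 * ((2 ^ f) ^ 8 - 1)) = 2 * ((2 ^ f) ^ 4 * ((2 ^ f) ^ 8 - 1)) * 2 by ring]
        exact Nat.mul_dvd_mul hn hj
      · have hfin : Finite (GL (Fin 4 ⊕ Fin 4) F) := inferInstance
        have hn0 : n ≠ 0 := by
          rintro rfl
          rw [zero_mul] at hRj
          exact Nat.card_pos.ne' hRj
        have hj0 : j ≠ 0 := by
          rintro rfl
          norm_num at hj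
        have hrn : r ∣ n := by
          rw [hRj] at hrR
          rcases hr.prime.dvd_mul.1 hrR with h | h
          · exact h
          · exact absurd ((Nat.prime_dvd_prime_iff_eq hr.prime Nat.prime_two).1 (h.trans hj))
              (PP_ne_two (by omega : 1 ≤ f * 8) (pp_of rfl hr))
        rcases hn2 hrn with h | h
        · exfalso
          have h1 : (Nat.card R).factorization 2 = n.factorization 2 + j.factorization 2 := by
            rw [hRj, Nat.factorization_mul hn0 hj0]
            rfl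
          have h2 : (Nat.card R).factorization 2 < 4 * f := hlt
          omega
        · rw [hRj]
          have h3 : n * j ∣ 4 * ((2 ^ f) ^ 4 + 1) * 2 := Nat.mul_dvd_mul h hj
          refine h3.trans ⟨2, by ring⟩
  · rcases three pt hf hF hQ hP hR'I (pp_of rfl hs) (pp_of rfl ht) (by rw [hcard]; exact hsR) (by rw [hcard]; exact htR)
      with h | h
    · exact Or.inl (hom h)
    · right
      rwa [hcard] at h

end Cfsg.Agent.H815.Rs
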