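import Cfsg.Agent.H815.Rs.Parts
import Cfsg.Agent.H955.QMinus
import Cfsg.Agent.H449.Reg.Abs
import Cfsg.Agent.S0288

/-!
# S3691: the form over a self-adjoint field, characteristic two (helper815)
-/

set_option autoImplicit false
set_option linter.unusedSectionVars false

namespace Cfsg.Agent.H815.Rs

open Module QuadraticMap Cfsg Cfsg.Geo Cfsg.Agent.LieClassical.OrthCore Cfsg.Agent.H955
open Cfsg.Agent.LieClassical.OrthFinite (glEquiv glEquiv_apply)
open scoped MatrixGroups Matrix

section LForm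

variable {F : Type} [Field F] [Fintype F] {L : Type} [Field L] [Finite L] [Algebra F L] [CharP F 2] [CharP L 2]
  {V : Type} [AddCommGroup V] [Module F V] [Module L V] [IsScalarTower F L V] {Q : QuadraticForm F V}

/-- the square root -/
noncomputable def sq (k : L) : L := (frobeniusEquiv L 2).symm k

theorem sq_mul_self (k : L) : sq k * sq k = k := by
  have h := frobeniusEquiv_symm_pow_p L 2 k
  rw [pow_two] at h
  exact h

theorem sq_unique {a k : L} (h : a * a = k) : sq k = a := by
  apply (frobeniusEquiv L 2).injective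
  rw [sq, RingEquiv.apply_symm_apply, frobeniusEquiv_apply, frobenius_def, pow_two, h]

theorem sq_add (k l : L) : sq (k + l) = sq k + sq l := map_add _ _ _

theorem sq_mul (k l : L) : sq (k * l) = sq k * sq l := map_mul _ _ _

theorem sq_one : sq (1 : L) = 1 := map_one _

theorem sq_mul_sq (k l : L) : sq (k * (l * l)) = sq k * l := sq_unique (by
  rw [mul_mul_mul_comm, sq_mul_self])

/-- the functional `k ↦ Q (√k v)` -/
noncomputable def fun1 (hadj : ∀ (k : L) (u v : V), polar Q (k • u) v = polar Q u (k • v))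
    (hch2 : ∀ (k : L) (v : V), polar Q (k • v) v = 0) (v : V) : Module.Dual F L where
  toFun k := Q (sq k • v)
  map_add' k l := by
    have h1 : polar Q (sq k • v) (sq l • v) = 0 := by
      rw [← hadj, smul_smul, hch2]
    rw [sq_add, add_smul]
    rw [polar] at h1
    linear_combination h1
  map_smul' a k := by
    obtain ⟨b, hb⟩ : ∃ b : F, b * b = a := ⟨sq a, sq_mul_self a⟩
    have h1 : sq (a • k) = algebraMap F L b * sq k := by
      apply sq_unique
      rw [mul_mul_mul_comm, sq_mul_self, ← map_mul, hb, Algebra.smul_def]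
    rw [h1, mul_smul, algebraMap_smul, QuadraticMap.map_smul, hb]
    rfl

theorem tr_nondeg : (Algebra.traceForm F L).Nondegenerate := by
  have : Module.Finite F L := Module.Finite.of_finite
  exact traceForm_nondegenerate F L

/-- uniqueness for the trace form -/
theorem tr_unique {x y : L} (h : ∀ k : L, Algebra.trace F L (x * k) = Algebra.trace F L (y * k)) : x = y := by
  have h1 := (tr_nondeg (F := F) (L := L)).1 (x - y) (fun k => by
    rw [Algebra.traceForm_apply, sub_mul, map_sub, h, sub_self])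
  exact sub_eq_zero.1 h1

/-- the values -/
noncomputable def lval (hadj : ∀ (k : L) (u v : V), polar Q (k • u) v = polar Q u (k • v))
    (hch2 : ∀ (k : L) (v : V), polar Q (k • v) v = 0) (v : V) : L :=
  have : Module.Finite F L := Module.Finite.of_finite
  (LinearMap.BilinForm.toDual (Algebra.traceForm F L) tr_nondeg).symm (fun1 hadj hch2 v)

variable (hadj : ∀ (k : L) (u v : V), polar Q (k • u) v = polar Q u (k • v))
  (hch2 : ∀ (k : L) (v : V), polar Q (k • v) v = 0)

theorem tr_lval (v : V) (k : L) : Algebra.trace F L (lval hadj hch2 v * k) = Q (sq k • v) := by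
  have : Module.Finite F L := Module.Finite.of_finite
  have h1 := LinearMap.BilinForm.apply_toDual_symm_apply (hB := tr_nondeg (F := F) (L := L)) (fun1 hadj hch2 v) k
  exact h1

theorem tr_polar (v w : V) (k : L) : Algebra.trace F L (polar (lval hadj hch2) v w * k) = polar Q (k • v) w := by
  rw [polar, sub_mul, sub_mul, map_sub, map_sub, tr_lval, tr_lval, tr_lval, smul_add]
  have h1 : polar Q (sq k • v) (sq k • w) = polar Q (k • v) w := by
    rw [← hadj, smul_smul, sq_mul_self]
  rw [← h1]
  rfl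

/-- the form over `L` -/
noncomputable def lform : QuadraticForm L V :=
  QuadraticMap.ofPolar (lval hadj hch2)
    (fun a v => tr_unique (F := F) fun k => by
      have h1 : (a * a) • lval hadj hch2 v * k = lval hadj hch2 v * (k * (a * a)) := by
        rw [smul_eq_mul]
        ring
      rw [h1, tr_lval, tr_lval, sq_mul_sq, mul_smul])
    (fun x x' y => tr_unique (F := F) fun k => by
      rw [tr_polar, add_mul, map_add, tr_polar, tr_polar, smul_add, polar_add_left])
    (fun a x y => tr_unique (F := F) fun k => by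
      rw [tr_polar, smul_eq_mul, mul_comm a, mul_assoc, tr_polar, smul_smul, mul_comm k a])

theorem lform_apply (v : V) : lform hadj hch2 v = lval hadj hch2 v := rfl

theorem q_eq (v : V) : Q v = Algebra.trace F L (lform hadj hch2 v) := by
  have h1 := tr_lval hadj hch2 v 1
  rw [mul_one, sq_one, one_smul] at h1
  exact h1.symm

theorem nondeg_lform (hQ : Nondeg Q) : Nondeg (lform hadj hch2) := by
  intro v hv
  apply hQ
  intro w
  have h1 := tr_polar hadj hch2 v w 1
  have h2 : polar (lval hadj hch2) v w = 0 := hv w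
  rw [h2, zero_mul, map_zero, one_smul] at h1
  exact h1.symm

theorem not_plus_lform (hP : ¬ IsPlus Q) : ¬ IsPlus (lform hadj hch2) := by
  rintro ⟨U, hU, hd⟩
  apply hP
  refine ⟨U.restrictScalars F, fun u hu => ?_, ?_⟩
  · rw [q_eq hadj hch2, hU u hu, map_zero]
  · have h1 := Module.finrank_mul_finrank F L V
    have h2 := Module.finrank_mul_finrank F L U
    have h3 : finrank F (U.restrictScalars F) = finrank F U := rfl
    rw [h3, ← h2, ← h1, ← hd]
    ring

theorem lform_map {x : V ≃ₗ[L] V} (hx : ∀ v, Q (x v) = Q v) (v : V) : lform hadj hch2 (x v) = lform hadj hch2 v := by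
  refine tr_unique (F := F) fun k => ?_
  rw [lform_apply, lform_apply, tr_lval, tr_lval, ← map_smul, hx]

end LForm

/-- the order of `O_4^-(s)` -/
theorem card_iso_four {L : Type} [Field L] [Fintype L] {a b : L}
    (hab : ∀ z₁ z₂ : L, z₁ ^ 2 + a * z₁ * z₂ + b * z₂ ^ 2 = 0 → z₁ = 0 ∧ z₂ = 0) :
    Nat.card (Cfsg.isometryGroup L (Cfsg.quadFormMinus 1 L a b)) = 2 * (Nat.card L ^ 2 * (Nat.card L ^ 4 - 1)) := by
  have h2 := S0288.result (F := L) (q := Nat.card L) (Nat.card_eq_fintype_card).symm 2 (by norm_num) a b hab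
  have h3 : 2 * Nat.card L ^ (2 * (2 - 1)) * (Nat.card L ^ 2 + 1) * ∏ i ∈ Finset.range (2 - 1), (Nat.card L ^ (2 * (i + 1)) - 1) =
      2 * (Nat.card L ^ 2 * (Nat.card L ^ 4 - 1)) := by
    rw [show 2 - 1 = 1 by norm_num, Finset.prod_range_one, show 2 * 1 = 2 by norm_num]
    have h4 : 1 ≤ Nat.card L ^ 2 := Nat.one_le_pow _ _ Nat.card_pos
    obtain ⟨c, hc⟩ := Nat.exists_eq_add_of_le h4
    have h5 : Nat.card L ^ 4 = Nat.card L ^ 2 * Nat.card L ^ 2 := by ring
    rw [h5, hc, Nat.add_sub_cancel_left, show (1 + c) * (1 + c) = 1 + (1 + c + 1) * c by ring, Nat.add_sub_cancel_left]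
    ring
  rw [h3] at h2
  exact h2

/-- groups of isometries of a form of minus type in dimension four -/
theorem exists_iso_four {L : Type} [Field L] [Finite L] {V : Type} [AddCommGroup V] [Module L V] [FiniteDimensional L V]
    {Q : QuadraticForm L V} (hQ : Nondeg Q) (hP : ¬ IsPlus Q) (h4 : finrank L V = 4) {P : Subgroup (V ≃ₗ[L] V)}
    (hPQ : ∀ x ∈ P, ∀ v, Q (x v) = Q v) :
    ∃ a b : L, (∀ z₁ z₂ : L, z₁ ^ 2 + a * z₁ * z₂ + b * z₂ ^ 2 = 0 → z₁ = 0 ∧ z₂ = 0) ∧
      ∃ P' : Subgroup (Cfsg.isometryGroup L (Cfsg.quadFormMinus 1 L a b)), Nat.card P' = Nat.card P := by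
  obtain ⟨a, b, hab⟩ := exists_aniso_coeff L
  obtain ⟨e, he⟩ := exists_minus_equiv hab 1 Q hQ (by rw [h4]) hP
  have hle : P.map (H449.Reg.cj e).toMonoidHom ≤ Cfsg.isometryGroup L (Cfsg.quadFormMinus 1 L a b) := by
    rintro _ ⟨x, hx, rfl⟩
    rw [LieClassical.OrthFinite.mem_isometryGroup_iff]
    intro v
    rw [← LieClassical.QuadForms.coe_minusForm]
    change LieClassical.QuadForms.minusForm 1 L a b ((H449.Reg.cj e x : Matrix _ _ L) *ᵥ v) = _
    rw [H449.Reg.cj_apply, he, hPQ x hx, ← he, e.apply_symm_apply]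
  refine ⟨a, b, hab, (P.map (H449.Reg.cj e).toMonoidHom).subgroupOf _, ?_⟩
  rw [Nat.card_congr (Subgroup.subgroupOfEquivOfLe hle).toEquiv, Subgroup.card_map_of_injective (H449.Reg.cj e).injective]

theorem card_dvd_four {L : Type} [Field L] [Finite L] {V : Type} [AddCommGroup V] [Module L V] [FiniteDimensional L V]
    {Q : QuadraticForm L V} (hQ : Nondeg Q) (hP : ¬ IsPlus Q) (h4 : finrank L V = 4) {P : Subgroup (V ≃ₗ[L] V)}
    (hPQ : ∀ x ∈ P, ∀ v, Q (x v) = Q v) :
    Nat.card P ∣ 2 * (Nat.card L ^ 2 * (Nat.card L ^ 4 - 1)) := by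
  let _ : Fintype L := Fintype.ofFinite L
  obtain ⟨a, b, hab, P', hP'⟩ := exists_iso_four hQ hP h4 hPQ
  rw [← hP', ← card_iso_four hab]
  exact P'.card_subgroup_dvd_card

/-- **(K)** -/
theorem kForm : KForm := by
  intro F _ _ L _ _ _ V _ _ _ _ _ Q h20 hQ hP h8 h2L hadj hch2 P hPQ
  have hcF : CharP F 2 := CharTwo.of_one_ne_zero_of_two_eq_zero one_ne_zero h20
  have hcL : CharP L 2 := (Algebra.charP_iff F L 2).1 hcF
  have hfdL : FiniteDimensional L V := Module.Finite.of_restrictScalars_finite F L V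
  have hfL : Module.Finite F L := Module.Finite.of_finite
  have h4 : finrank L V = 4 := by
    have h1 := Module.finrank_mul_finrank F L V
    rw [h2L, h8] at h1
    omega
  have h1 := card_dvd_four (nondeg_lform hadj hch2 hQ) (not_plus_lform hadj hch2 hP) h4 (P := P)
    (fun x hx v => lform_map hadj hch2 (hPQ x hx) v)
  have h2 : Nat.card L = Nat.card F ^ 2 := by
    rw [Module.natCard_eq_pow_finrank (K := F) (V := L), h2L]
  rw [h2, ← pow_mul, ← pow_mul] at h1
  exact h1

end Cfsg.Agent.H815.Rs
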