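import Cfsg.Agent.H659.Rs.Box
import Cfsg.Agent.H975.Cov.Props
import Cfsg.Agent.H976.Rg.Comb

/-!
# S3691, `O_8^-(2^f)`: the two pieces of the box (helper815)
-/

set_option autoImplicit false

namespace Cfsg.Agent.H815.Rs

open Module QuadraticMap Cfsg Cfsg.Geo Cfsg.Agent.LieClassical.OrthCore Cfsg.Agent.H955 Cfsg.Agent.H884.El
open scoped MatrixGroups Matrix

/-- (K) isometries of a form of minus type in dimension 8 which commute with a self-adjoint quadratic field: they preserve an `L`-form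
`Q'` with `Tr (k * Q' v) = Q (√k • v)`, of minus type in dimension 4 over `L` -/
def KForm : Prop :=
  ∀ {F : Type} [Field F] [Fintype F] {L : Type} [Field L] [Finite L] [Algebra F L] {V : Type} [AddCommGroup V] [Module F V]
    [Module L V] [IsScalarTower F L V] [FiniteDimensional F V] {Q : QuadraticForm F V}, (2 : F) = 0 → Nondeg Q → ¬ IsPlus Q →
    finrank F V = 8 → finrank F L = 2 → (∀ (k : L) (u v : V), polar Q (k • u) v = polar Q u (k • v)) →
    (∀ (k : L) (v : V), polar Q (k • v) v = 0) →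
    ∀ P : Subgroup (V ≃ₗ[L] V), (∀ x ∈ P, ∀ v, Q (x v) = Q v) →
    Nat.card P ∣ 2 * ((Nat.card F) ^ 4 * ((Nat.card F) ^ 8 - 1))

/-- (Pt) the stabiliser of a nonsingular point in `Ω_8^±(2^f)`, with `r_6` and `r_3` -/
def Pt : Prop :=
  ∀ {F : Type} [Field F] [Fintype F] {f s t : ℕ}, 4 ≤ f → Fintype.card F = 2 ^ f → ∀ Q : QuadraticForm F (Fin 8 → F), Nondeg Q →
    ∀ v : Fin 8 → F, Q v ≠ 0 → ∀ R : Subgroup (GL (Fin 8) F), R ≤ omegaGL (⇑Q) →
    R ≤ subspaceStabilizer (Submodule.span F {v}) → PP 2 (f * 6) s → PP 2 (f * 3) t → s ∣ Nat.card R → t ∣ Nat.card R →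
    (Nat.card R).factorization 2 ≤ 6 * f + f.factorization 2 ∨ (Nat.card R).factorization 2 = 9 * f

end Cfsg.Agent.H815.Rs
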